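/-
Commutative finite group schemes: rank prime to `p` versus étaleness of the group and of its dual.
-/
import Mathlib
import Groth.Agent.HopfDerLib.Basic
import Groth.Agent.S18472
import Groth.Agent.FinPtsLib.Basic
import Groth.Agent.HopfFFLib.Order

set_option autoImplicit false

universe u v

open TensorProduct WithConv

namespace Groth.Agent.EtaleRank

variable {k : Type u} [Field k]

theorem etale_of_finrank_ne_zero (A : Type v) [CommRing A] [HopfAlgebra k A] [Module.Finite k A]
    (hn : (Module.finrank k A : k) ≠ 0) : Algebra.Etale k A := by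
  rw [Groth.Agent.S18472.result k A]
  let I := RingHom.ker (Bialgebra.counitAlgHom k A)
  obtain ⟨π, hπI, hπ1⟩ : ∃ π : A →ₗ[k] I.Cotangent, (∀ x : I, π (x : A) = I.toCotangent x) ∧ π 1 = 0 := by
    let p : A →ₗ[k] I.restrictScalars k :=
      (LinearMap.id - Algebra.linearMap k A ∘ₗ CoalgebraStruct.counit (R := k)).codRestrict _
        (fun x => by
          rw [Submodule.restrictScalars_mem, RingHom.mem_ker]
          simp)
    refine ⟨I.toCotangent.restrictScalars k ∘ₗ p, fun x => ?_, ?_⟩
    · have h : CoalgebraStruct.counit (R := k) (x : A) = 0 := x.2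
      have e : p (x : A) = ⟨x.1, x.2⟩ := Subtype.ext (by simp [p, h])
      show I.toCotangent (p (x : A)) = _
      rw [e]
      rfl
    · have e : p 1 = 0 := Subtype.ext (by simp [p])
      show I.toCotangent (p 1) = _
      rw [e]
      exact map_zero I.toCotangent
  let f : ℕ → (A →ₐ[k] A) := fun j => (toConv (AlgHom.id k A) ^ j).ofConv
  have hε : ∀ (j : ℕ) (a : A), CoalgebraStruct.counit (R := k) (f j a) = CoalgebraStruct.counit (R := k) a := by
    intro j
    induction j with
    | zero => intro a; simp [f]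
    | succ j ih =>
      intro a
      have hz : ∀ z : A ⊗[k] A, CoalgebraStruct.counit (R := k)
          (Algebra.TensorProduct.lift (f j) (AlgHom.id k A) (fun _ _ => .all _ _) z) =
          CoalgebraStruct.counit (R := k) (TensorProduct.lid k A ((CoalgebraStruct.counit (R := k)).rTensor A z)) := by
        intro z
        induction z using TensorProduct.induction_on with
        | zero => simp
        | add x y hx hy => simp only [map_add, hx, hy]
        | tmul x y => simp [ih]
      simp only [f, pow_succ]
      rw [AlgHom.convMul_apply]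
      refine (hz _).trans ?_
      simp
  have hπ : ∀ (j : ℕ) (a : A), π (f j a) = (j : k) • π a := by
    intro j
    induction j with
    | zero => intro a; simp [f, Algebra.algebraMap_eq_smul_one, hπ1]
    | succ j ih =>
      intro a
      have hz : ∀ z : A ⊗[k] A, π (Algebra.TensorProduct.lift (f j) (AlgHom.id k A) (fun _ _ => .all _ _) z) =
          π (TensorProduct.lid k A ((CoalgebraStruct.counit (R := k)).rTensor A z)) +
            (j : k) • π (TensorProduct.rid k A ((CoalgebraStruct.counit (R := k)).lTensor A z)) := by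
        intro z
        induction z using TensorProduct.induction_on with
        | zero => simp
        | add x y hx hy => simp only [map_add, smul_add, hx, hy]; abel
        | tmul x y =>
          simp [Groth.Agent.HopfDer.pi_mul π hπI hπ1, hε, ih, smul_comm (CoalgebraStruct.counit (R := k) y)]
      simp only [f, pow_succ]
      rw [AlgHom.convMul_apply]
      refine (hz _).trans ?_
      simp [add_smul]
      abel
  have hzero : ∀ a, π a = 0 := by
    intro a
    have h := hπ (Module.finrank k A) a
    simp only [f, Groth.Agent.HopfFF.convPow_id_eq_one] at h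
    have h0 : π ((1 : WithConv (A →ₐ[k] A)).ofConv a) = 0 := by
      simp [Algebra.algebraMap_eq_smul_one, hπ1]
    exact (smul_eq_zero.1 (h.symm.trans h0)).resolve_left hn
  haveI : Subsingleton I.Cotangent := subsingleton_of_forall_eq 0 fun c => by
    obtain ⟨x, rfl⟩ := I.toCotangent_surjective c
    rw [← hπI]
    exact hzero _
  rw [pow_two]
  exact (Ideal.cotangent_subsingleton_iff I).1 inferInstance

theorem primitive_baseChange (A : Type v) [CommRing A] [HopfAlgebra k A]
    (hA : ∀ x : A, CoalgebraStruct.comul (R := k) x = x ⊗ₜ[k] (1 : A) + (1 : A) ⊗ₜ[k] x → x = 0)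
    (L : Type*) [Field L] [Algebra k L] (z : L ⊗[k] A)
    (hz : CoalgebraStruct.comul (R := L) z = z ⊗ₜ[L] (1 : L ⊗[k] A) + (1 : L ⊗[k] A) ⊗ₜ[L] z) : z = 0 := by
  classical
  let b := Module.Free.chooseBasis k L
  refine (TensorProduct.equivFinsuppOfBasisLeft b).injective ?_
  rw [map_zero]
  ext i
  rw [Finsupp.zero_apply]
  refine hA _ ?_
  let P : L ⊗[k] A →ₗ[k] A := (TensorProduct.lid k A).toLinearMap ∘ₗ (b.coord i).rTensor A
  have hP : ∀ w, P w = TensorProduct.equivFinsuppOfBasisLeft b w i := by
    intro w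
    induction w using TensorProduct.induction_on with
    | zero => simp [P]
    | add x y hx hy => simp only [map_add, Finsupp.add_apply, hx, hy]
    | tmul x y => simp [P]
  rw [← hP]
  let κ : (L ⊗[k] A) ⊗[L] (L ⊗[k] A) →ₐ[L] L ⊗[k] (A ⊗[k] A) :=
    Algebra.TensorProduct.lift
      (Algebra.TensorProduct.map (AlgHom.id L L) (Algebra.TensorProduct.includeLeft : A →ₐ[k] A ⊗[k] A))
      (Algebra.TensorProduct.map (AlgHom.id L L) (Algebra.TensorProduct.includeRight : A →ₐ[k] A ⊗[k] A))
      fun _ _ => .all _ _
  let Q : L ⊗[k] (A ⊗[k] A) →ₗ[k] A ⊗[k] A := (TensorProduct.lid k _).toLinearMap ∘ₗ (b.coord i).rTensor _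
  have h1 : ∀ w : L ⊗[k] A, Q (κ (CoalgebraStruct.comul (R := L) w)) = CoalgebraStruct.comul (R := k) (P w) := by
    intro w
    induction w using TensorProduct.induction_on with
    | zero => simp
    | add x y hx hy => simp only [map_add, hx, hy]
    | tmul l a =>
      rw [TensorProduct.comul_tmul]
      simp only [P, LinearMap.comp_apply, LinearMap.rTensor_tmul, LinearEquiv.coe_coe, TensorProduct.lid_tmul, map_smul]
      generalize CoalgebraStruct.comul (R := k) a = t
      induction t using TensorProduct.induction_on with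
      | zero => simp
      | add x y hx hy => simp only [tmul_add, map_add, smul_add, hx, hy]
      | tmul x y => simp [κ, Q]
  rw [← h1, hz, map_add, map_add]
  have h2 : ∀ w : L ⊗[k] A, Q (κ (w ⊗ₜ[L] (1 : L ⊗[k] A))) = P w ⊗ₜ[k] (1 : A) ∧
      Q (κ ((1 : L ⊗[k] A) ⊗ₜ[L] w)) = (1 : A) ⊗ₜ[k] P w := by
    intro w
    induction w using TensorProduct.induction_on with
    | zero => simp
    | add x y hx hy => simp only [add_tmul, tmul_add, map_add, hx.1, hy.1, hx.2, hy.2, and_self]
    | tmul l a => simp [κ, Q, P, Algebra.TensorProduct.one_def, smul_tmul']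
  rw [(h2 z).1, (h2 z).2]

theorem exists_addHom_of_module (p : ℕ) [Fact p.Prime] {Q : Type v} [AddCommGroup Q]
    [Module (ZMod p) Q] [Nontrivial Q] : ∃ (f : Q →+ ZMod p) (q : Q), f q ≠ 0 := by
  let b := Module.Basis.ofVectorSpace (ZMod p) Q
  obtain ⟨q, hq⟩ := exists_ne (0 : Q)
  by_contra h
  push Not at h
  exact hq (b.ext_elem fun i => (h (b.coord i).toAddMonoidHom q).trans (by simp))

set_option backward.isDefEq.respectTransparency false in
theorem exists_addHom {G : Type v} [AddCommGroup G] [Finite G] (p : ℕ) [Fact p.Prime]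
    (hdvd : p ∣ Nat.card G) : ∃ (φ : G →+ ZMod p) (y : G), φ y ≠ 0 := by
  let pw : G →+ G := nsmulAddMonoidHom p
  obtain ⟨g, hg⟩ := exists_prime_addOrderOf_dvd_card' p hdvd
  have hns : pw.range ≠ ⊤ := by
    intro htop
    have hinj : Function.Injective pw :=
      Finite.injective_iff_surjective.2 (AddMonoidHom.range_eq_top.1 htop)
    have h1 : pw g = 0 := by
      show p • g = 0
      rw [← hg]
      exact addOrderOf_nsmul_eq_zero g
    have h2 : g = 0 := hinj (h1.trans (map_zero pw).symm)
    rw [h2, addOrderOf_zero] at hg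
    exact (Fact.out : p.Prime).one_lt.ne hg
  letI : Module (ZMod p) (G ⧸ pw.range) := AddCommGroup.zmodModule (fun x => by
    obtain ⟨y, rfl⟩ := QuotientAddGroup.mk_surjective x
    rw [← QuotientAddGroup.mk_nsmul]
    exact (QuotientAddGroup.eq_zero_iff _).2 ⟨y, rfl⟩)
  haveI : Nontrivial (G ⧸ pw.range) := QuotientAddGroup.nontrivial_iff.2 hns
  obtain ⟨f, q, hq⟩ := exists_addHom_of_module p (Q := G ⧸ pw.range)
  obtain ⟨y, rfl⟩ := QuotientAddGroup.mk_surjective q
  exact ⟨f.comp (QuotientAddGroup.mk' pw.range), y, hq⟩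

theorem exists_primitive_of_dvd {L : Type*} [Field L] [IsAlgClosed L] (p : ℕ) [Fact p.Prime] [CharP L p]
    (B : Type v) [CommRing B] [HopfAlgebra L B] [Coalgebra.IsCocomm L B] [Module.Finite L B] [IsReduced B]
    (hdvd : p ∣ Module.finrank L B) :
    ∃ z : B, z ≠ 0 ∧ CoalgebraStruct.comul (R := L) z = z ⊗ₜ[L] (1 : B) + (1 : B) ⊗ₜ[L] z := by
  classical
  obtain ⟨b, hb, hfin, hcard⟩ := Groth.Agent.FinPts.exists_basis L B
  haveI := Fintype.ofFinite (B →ₐ[L] L)
  let N := WithConv (B →ₐ[L] L)
  haveI : Finite N := Finite.of_injective _ WithConv.ofConv_injective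
  have hNcard : p ∣ Nat.card N := by
    rw [Nat.card_congr (WithConv.equiv (B →ₐ[L] L)), hcard]
    exact hdvd
  obtain ⟨φ, y, hφ⟩ := exists_addHom p (G := Additive N) (hNcard.trans (Nat.card_congr Additive.ofMul).dvd)
  let Φ : Additive N →+ L := (ZMod.castHom (dvd_refl p) L).toAddMonoidHom.comp φ
  let z : B := ∑ ψ : B →ₐ[L] L, Φ (Additive.ofMul (toConv ψ)) • b ψ
  have hz : ∀ χ : B →ₐ[L] L, χ z = Φ (Additive.ofMul (toConv χ)) := by
    intro χ
    simp [z, hb]
  refine ⟨z, fun h0 => hφ ?_, ?_⟩
  · have h := hz (Additive.toMul y).ofConv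
    rw [h0, map_zero] at h
    exact (ZMod.castHom (dvd_refl p) L).injective (h.symm.trans (map_zero _).symm)
  · refine (b.tensorProduct b).repr.injective (Finsupp.ext fun ⟨χ, ψ⟩ => ?_)
    have key : ∀ w : B ⊗[L] B, (b.tensorProduct b).repr w (χ, ψ) =
        Algebra.TensorProduct.lift χ ψ (fun _ _ => .all _ _) w := by
      intro w
      conv_rhs => rw [← (b.tensorProduct b).sum_repr w]
      rw [map_sum, Finset.sum_eq_single (χ, ψ)]
      · simp [hb]
      · rintro ⟨x, y⟩ - hne
        by_cases h1 : χ = x
        · have h2 : ψ ≠ y := fun h2 => hne (by rw [h1, h2])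
          simp [hb, h2]
        · simp [hb, h1]
      · simp
    rw [key, key]
    have h := hz (toConv χ * toConv ψ).ofConv
    rw [AlgHom.convMul_apply] at h
    refine h.trans ?_
    rw [toConv_ofConv, ofMul_mul, map_add, ← hz, ← hz]
    simp

end Groth.Agent.EtaleRank
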